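import Groth.Agent.Fitting.BaseChange
import Mathlib.RingTheory.LocalRing.Module
import Mathlib.RingTheory.LocalRing.ResidueField.Ideal
import Mathlib.LinearAlgebra.Dimension.StrongRankCondition
import Mathlib.RingTheory.Localization.BaseChange
import Mathlib.RingTheory.Localization.Away.Basic

/-! The Fitting ideals and the dimensions of the fibres of a module. -/

set_option autoImplicit false
universe u v

open TensorProduct

namespace Groth.Agent.Fitting

variable {R : Type u} [CommRing R] {M : Type u} [AddCommGroup M] [Module R M] [Module.Finite R M]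

theorem not_le_iff_finrank_le (k : ℕ) (p : Ideal R) [p.IsPrime] :
    ¬ Fitt.ideal R M k ≤ p ↔ Module.finrank p.ResidueField (p.ResidueField ⊗[R] M) ≤ k := by
  have h := ideal_of_isBaseChange (TensorProduct.isBaseChange R M p.ResidueField) k
  rw [ideal_field] at h
  have key : Fitt.ideal R M k ≤ p ↔ (Fitt.ideal R M k).map (algebraMap R p.ResidueField) = ⊥ := by
    rw [Ideal.map_eq_bot_iff_le_ker, Ideal.ker_algebraMap_residueField]
  rw [key]
  split_ifs at h with hle <;> simp [← h, hle]

theorem exists_smul_mem_span (k : ℕ) (p : Ideal R) [p.IsPrime]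
    (h : Module.finrank p.ResidueField (p.ResidueField ⊗[R] M) ≤ k) :
    ∃ f : R, f ∉ p ∧ ∃ g : Fin k → M, ∀ m, f • m ∈ Submodule.span R (Set.range g) := by
  classical
  let K := p.ResidueField
  let s : Set (K ⊗[R] M) := Set.range fun m => (1 : K) ⊗ₜ m
  have hs : Submodule.span K s = ⊤ := by
    refine eq_top_iff.mpr fun x _ => ?_
    induction x using TensorProduct.induction_on with
    | zero => exact zero_mem _
    | tmul a m =>
      rw [← mul_one a, ← smul_eq_mul, ← TensorProduct.smul_tmul']
      exact Submodule.smul_mem _ _ (Submodule.subset_span ⟨m, rfl⟩)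
    | add x y hx hy => exact add_mem (hx trivial) (hy trivial)
  obtain ⟨w, hw, hspan, -⟩ := Submodule.exists_fun_fin_finrank_span_eq K s
  have hspan' : Submodule.span K (Set.range w) = ⊤ := hspan.trans hs
  have hd : Module.finrank K (Submodule.span K s) ≤ k := by rwa [hs, finrank_top]
  choose m hm using hw
  let g : Fin k → M := fun i => if hi : (i : ℕ) < Module.finrank K (Submodule.span K s) then m ⟨i, hi⟩ else 0
  let N := Submodule.span R (Set.range g)
  have hnot : (⟨p, inferInstance⟩ : PrimeSpectrum R) ∉ Module.support R (M ⧸ N) := by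
    rw [Module.mem_support_iff_nontrivial_residueField_tensorProduct, not_nontrivial_iff_subsingleton]
    have hsurj : Function.Surjective ((N.mkQ).baseChange K) := by
      rw [LinearMap.baseChange_eq_ltensor]
      exact LinearMap.lTensor_surjective _ N.mkQ_surjective
    have hzero : (N.mkQ).baseChange K = 0 := by
      refine LinearMap.ext_on_range hspan' fun i => ?_
      rw [← hm i, LinearMap.baseChange_tmul, LinearMap.zero_apply,
        show N.mkQ (m i) = 0 from (Submodule.Quotient.mk_eq_zero N).mpr (Submodule.subset_span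
          ⟨⟨i, i.2.trans_le hd⟩, dif_pos i.2⟩), tmul_zero]
    refine ⟨fun a b => ?_⟩
    obtain ⟨a, rfl⟩ := hsurj a
    obtain ⟨b, rfl⟩ := hsurj b
    rw [hzero]
    rfl
  rw [Module.support_eq_zeroLocus, PrimeSpectrum.mem_zeroLocus] at hnot
  obtain ⟨f, hf, hfp⟩ := Set.not_subset.mp hnot
  exact ⟨f, hfp, g, fun x => (Submodule.Quotient.mk_eq_zero N).mp (Module.mem_annihilator.mp hf (N.mkQ x))⟩

theorem span_localized {S : Submonoid R} {k : ℕ} {g : Fin k → M} {f : R} (hf : f ∈ S)
    (h : ∀ m, f • m ∈ Submodule.span R (Set.range g)) :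
    Submodule.span (Localization S) (Set.range fun i => LocalizedModule.mkLinearMap S M (g i)) = ⊤ := by
  refine eq_top_iff.mpr fun x _ => ?_
  induction x using LocalizedModule.induction_on with
  | _ m s =>
    have hm := Submodule.apply_mem_span_image_of_mem_span (LocalizedModule.mkLinearMap S M) (h m)
    rw [← Set.range_comp] at hm
    have h2 := Submodule.smul_mem _ (Localization.mk 1 (s * ⟨f, hf⟩))
      (Submodule.span_le_restrictScalars R (Localization S) _ hm)
    have e : LocalizedModule.mk m s =
        Localization.mk 1 (s * ⟨f, hf⟩) • LocalizedModule.mkLinearMap S M (f • m) := by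
      rw [LocalizedModule.mkLinearMap_apply, LocalizedModule.mk_smul_mk, one_smul, mul_one, mul_comm s]
      exact (LocalizedModule.mk_cancel_common_left ⟨f, hf⟩ s m).symm
    rw [e]
    exact h2

theorem ideal_localization (S : Submonoid R) (k : ℕ) :
    Fitt.ideal (Localization S) (LocalizedModule S M) k = (Fitt.ideal R M k).map (algebraMap R (Localization S)) :=
  ideal_of_isBaseChange (IsLocalizedModule.isBaseChange S (Localization S) (LocalizedModule.mkLinearMap S M)) k

theorem not_le_of_span {S : Submonoid R} {p : Ideal R} [p.IsPrime] (hS : ∀ x ∈ S, x ∉ p) {k : ℕ}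
    (g : Fin k → LocalizedModule S M) (hg : Submodule.span (Localization S) (Set.range g) = ⊤) :
    ¬ Fitt.ideal R M k ≤ p := by
  have h := ideal_localization (M := M) S k
  rw [ideal_eq_F g hg, F_eq_top_of_le g le_rfl, eq_comm] at h
  intro hle
  exact (IsLocalization.map_algebraMap_ne_top_iff_disjoint S (Localization S) (Fitt.ideal R M k)).mpr
    (Set.disjoint_left.mpr fun x hxS hx => hS x hxS (hle hx)) h

end Groth.Agent.Fitting
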