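import Groth.Agent.Fitting.Sheaf
import Groth.Agent.Fitting.Fiber
import Groth.Agent.ModStalk.LocFreeDescent
import Groth.Agent.ModStalk.Restrict

/-! Fitting ideals and local generation of sheaves. -/

set_option autoImplicit false
set_option linter.style.haveILetI false
universe u

open CategoryTheory CategoryTheory.Limits AlgebraicGeometry Opposite TopologicalSpace SheafOfModules

namespace Groth.Agent.Fitting

open Groth.Agent.ModStalk

variable {X : Scheme.{u}} (M : X.Modules)

theorem exists_epi_freeMod {U : X.Opens} {n : ℕ} (s₀ : Fin n → Γ(M, U))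
    (h₀ : ∀ (y : X) (hy : y ∈ U), Submodule.span (X.presheaf.stalk y)
      (Set.range fun i => M.presheaf.germ U y hy (s₀ i)) = ⊤) :
    ∃ π : FlatMod.freeMod (↑U) n ⟶ M.restrict U.ι, Epi π := by
  let I : Type u := ULift.{u} (Fin n)
  let s : I → Γ(M, U) := fun i => s₀ i.down
  have h : ∀ (y : X) (hy : y ∈ U), Submodule.span (X.presheaf.stalk y)
      (Set.range fun i => M.presheaf.germ U y hy (s i)) = ⊤ := fun y hy => by
    rw [show (Set.range fun i : I => M.presheaf.germ U y hy (s i)) =
      Set.range fun i => M.presheaf.germ U y hy (s₀ i) from Equiv.ulift.surjective.range_comp fun i => M.presheaf.germ U y hy (s₀ i)]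
    exact h₀ y hy
  let sec : I → (SheafOfModules.over (R := X.ringCatSheaf) M U).sections := fun i =>
    PresheafOfModules.sectionsMk (fun W => M.presheaf.map W.unop.hom.op (s i)) fun {W W'} f => by
      exact res_res M (leOfHom W.unop.hom) (leOfHom f.unop.left) (s i)
  let φ := (SheafOfModules.over (R := X.ringCatSheaf) M U).freeHomEquiv.symm sec
  have hφ : Epi φ := by
    refine epi_of_exists_local_sum φ fun W t => ?_
    have hW : W.left ≤ U := leOfHom W.hom
    let S : Sieve W.left :=
      { arrows := fun V j => ∃ r : I → Γ(X, V), M.presheaf.map j.op t =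
          ∑ i, r i • M.presheaf.map (homOfLE ((leOfHom j).trans hW)).op (s i)
        downward_closed := by
          rintro V V' j ⟨r, hr⟩ k
          refine ⟨fun i => X.presheaf.map k.op (r i), ?_⟩
          refine ((res_res M (leOfHom j) (leOfHom k) t).symm.trans (congrArg (M.presheaf.map k.op) hr)).trans ?_
          rw [map_sum]
          refine Finset.sum_congr rfl fun i _ => ?_
          erw [Scheme.Modules.map_smul]
          congr 1
          exact res_res M _ (leOfHom k) (s i) }
    refine ⟨(Sieve.overEquiv W).symm S, ?_, fun V j hj => ?_⟩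
    · apply GrothendieckTopology.overEquiv_symm_mem_over
      intro y hy
      obtain ⟨W', h', hy', r, hr⟩ := exists_local_coeff M s h hW t y hy
      exact ⟨W', homOfLE h', ⟨r, hr⟩, hy'⟩
    · obtain ⟨r, hr⟩ := (Sieve.overEquiv_symm_iff _ _).mp hj
      refine ⟨r, hr.trans (Finset.sum_congr rfl fun i _ => ?_)⟩
      rw [show (SheafOfModules.over (R := X.ringCatSheaf) M U).freeHomEquiv φ = sec from
        Equiv.apply_symm_apply _ _]
      rfl
  let E := Scheme.Modules.overEquiv U
  let η : SheafOfModules.unit (U : Scheme.{u}).ringCatSheaf ≅ E.functor.obj (SheafOfModules.unit _) :=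
    ((Scheme.Modules.overFunctorEquiv U).app (SheafOfModules.unit X.ringCatSheaf) ≪≫
      Scheme.Modules.restrictUnitIso U.ι).symm
  let e : E.functor.obj (SheafOfModules.free I) ≅ FlatMod.freeMod (↑U) n :=
    (PreservesCoproduct.iso E.functor fun _ : I => SheafOfModules.unit (X.ringCatSheaf.over U)) ≪≫
      Sigma.whiskerEquiv Equiv.ulift (fun _ => η)
  exact ⟨e.inv ≫ E.functor.map φ ≫ ((Scheme.Modules.overFunctorEquiv U).app M).hom, inferInstance⟩

theorem not_mem_support_of_epi {Y : Scheme.{u}} (G : Y.Modules) [G.IsQuasicoherent]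
    [SheafOfModules.IsFiniteType (R := Y.ringCatSheaf) G] {r : ℕ} (π : FlatMod.freeMod Y r ⟶ G) [Epi π]
    (y : Y) : y ∉ (Fitt.sheafIdeal G r).support := by
  obtain ⟨c⟩ := exists_freeMod_stalk_equiv Y r y
  obtain ⟨_, ⟨W, hW, rfl⟩, hyW, -⟩ := Y.isBasis_affineOpens.exists_subset_of_mem_open (Set.mem_univ y) isOpen_univ
  rw [mem_support_sheafIdeal_iff G r hW ⟨y, hyW⟩]
  haveI := finite_sections (M := G) hW
  letI := sectionModule G (⟨y, hyW⟩ : W)
  letI : Algebra Γ(Y, W) (Y.presheaf.stalk y) := (Y.presheaf.germ W y hyW).hom.toAlgebra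
  haveI : IsScalarTower Γ(Y, W) (Y.presheaf.stalk y) (G.presheaf.stalk y) := sectionTower G (⟨y, hyW⟩ : W)
  haveI : IsLocalization.AtPrime (Y.presheaf.stalk y) (hW.primeIdealOf ⟨y, hyW⟩).asIdeal :=
    hW.isLocalization_stalk ⟨y, hyW⟩
  have hl : IsBaseChange (Y.presheaf.stalk y) (germₗ G (⟨y, hyW⟩ : W)) :=
    (isLocalizedModule_iff_isBaseChange (hW.primeIdealOf ⟨y, hyW⟩).asIdeal.primeCompl
      (Y.presheaf.stalk y) _).mp (isLocalizedModule_germ hW G ⟨y, hyW⟩)
  let L : (Fin r → Y.presheaf.stalk y) →ₗ[Y.presheaf.stalk y] G.presheaf.stalk y :=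
    RefHull.stalkMapₗ π y ∘ₗ c.symm.toLinearMap
  have hL : Function.Surjective L := (stalkMap_surjective_of_epi π y).comp c.symm.surjective
  have hspan : Submodule.span (Y.presheaf.stalk y) (Set.range fun i => L (Pi.basisFun _ _ i)) = ⊤ := by
    rw [show (fun i => L (Pi.basisFun _ _ i)) = L ∘ Pi.basisFun (Y.presheaf.stalk y) (Fin r) from rfl,
      Set.range_comp, Submodule.span_image, Module.Basis.span_eq, Submodule.map_top, LinearMap.range_eq_top]
    exact hL
  have h := ideal_of_isBaseChange hl r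
  rw [ideal_eq_F _ hspan, F_eq_top_of_le _ le_rfl] at h
  intro hle
  exact (IsLocalization.map_algebraMap_ne_top_iff_disjoint (hW.primeIdealOf ⟨y, hyW⟩).asIdeal.primeCompl
    (Y.presheaf.stalk y) (Fitt.ideal Γ(Y, W) Γ(G, W) r)).mpr
    (Set.disjoint_left.mpr fun a ha haI => ha (hle haI)) h.symm

theorem exists_span_nhd_of_not_mem_support [M.IsQuasicoherent]
    [SheafOfModules.IsFiniteType (R := X.ringCatSheaf) M] {r : ℕ} (x : X)
    (hx : x ∉ (Fitt.sheafIdeal M r).support) :
    ∃ (U : X.Opens) (s : Fin r → Γ(M, U)), x ∈ U ∧ ∀ (y : X) (hy : y ∈ U),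
      Submodule.span (X.presheaf.stalk y) (Set.range fun i => M.presheaf.germ U y hy (s i)) = ⊤ := by
  obtain ⟨_, ⟨W, hW, rfl⟩, hxW, -⟩ := X.isBasis_affineOpens.exists_subset_of_mem_open (Set.mem_univ x) isOpen_univ
  rw [mem_support_sheafIdeal_iff M r hW ⟨x, hxW⟩] at hx
  haveI := finite_sections (M := M) hW
  obtain ⟨f, hf, g, hg⟩ := exists_smul_mem_span r _ ((not_le_iff_finrank_le r _).mp hx)
  refine ⟨X.basicOpen f, fun i => M.presheaf.map (homOfLE (X.basicOpen_le f)).op (g i),
    ?_, fun y hy => ?_⟩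
  · exact (germ_mem_primeIdeal_iff hW ⟨x, hxW⟩ f).mp hf
  · simp only [TopCat.Presheaf.germ_res_apply]
    have hyW := X.basicOpen_le f hy
    refine Submodule.eq_top_iff'.mpr fun m => ?_
    obtain ⟨a, b, ha, hb⟩ := exists_smul_eq_germ M hW y hyW m
    have hu : IsUnit (X.presheaf.germ W y hyW a) := (Scheme.mem_basicOpen _ _ _ hyW).mp ha
    have huf : IsUnit (X.presheaf.germ W y hyW f) := (Scheme.mem_basicOpen _ _ _ hyW).mp hy
    rw [← one_smul (X.presheaf.stalk y) m, ← hu.val_inv_mul, mul_smul, hb]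
    refine Submodule.smul_mem _ _ ?_
    rw [← Submodule.smul_mem_iff_of_isUnit _ huf, ← germ_smul]
    have hb' := hg b
    revert hb'
    generalize f • b = v
    intro hb'
    induction hb' using Submodule.span_induction with
    | mem w hw =>
      obtain ⟨i, rfl⟩ := hw
      exact Submodule.subset_span ⟨i, rfl⟩
    | zero => rw [map_zero]; exact Submodule.zero_mem _
    | add v w _ _ hv hw => rw [map_add]; exact Submodule.add_mem _ hv hw
    | smul c v _ hv => rw [germ_smul]; exact Submodule.smul_mem _ _ hv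

theorem F_eq_bot_of_linearIndependent {R : Type u} [CommRing R] {N : Type u} [AddCommGroup N] [Module R N]
    {n : ℕ} (x : Fin n → N) (hx : LinearIndependent R x) {k : ℕ} (hk : k < n) : F (R := R) x k = ⊥ := by
  rw [eq_bot_iff, F_eq_span_minors, Ideal.span_le]
  rintro _ ⟨z, e, hz, rfl⟩
  refine Ideal.mem_bot.mpr (Matrix.det_eq_zero_of_column_eq_zero (⟨0, by omega⟩ : Fin (n - k)) fun a => ?_)
  exact Fintype.linearIndependent_iff.mp hx _ (hz _) _

theorem linearIndependent_of_F_eq_bot {R : Type u} [CommRing R] {N : Type u} [AddCommGroup N] [Module R N]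
    {n : ℕ} (x : Fin n → N) (h : ∀ k, k < n → F (R := R) x k = ⊥) : LinearIndependent R x := by
  refine Fintype.linearIndependent_iff.mpr fun c hc i => ?_
  have h1 := h (n - 1) (by have := i.2; omega)
  rw [F_eq_span_minors, Ideal.span_eq_bot] at h1
  have hn : n - (n - 1) = 1 := by have := i.2; omega
  haveI : Unique (Fin (n - (n - 1))) := (finCongr hn).unique
  have h2 := h1 _ ⟨fun _ => c, fun _ => i, fun _ => hc, rfl⟩
  rwa [Matrix.det_unique] at h2

theorem map_ideal_germ [M.IsQuasicoherent] [SheafOfModules.IsFiniteType (R := X.ringCatSheaf) M]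
    (r : ℕ) {W : X.Opens} (hW : IsAffineOpen W) (y : X) (hy : y ∈ W) :
    Fitt.ideal (X.presheaf.stalk y) (M.presheaf.stalk y) r =
      (Fitt.ideal Γ(X, W) Γ(M, W) r).map (X.presheaf.germ W y hy).hom := by
  haveI := finite_sections (M := M) hW
  letI := sectionModule M (⟨y, hy⟩ : W)
  letI : Algebra Γ(X, W) (X.presheaf.stalk y) := (X.presheaf.germ W y hy).hom.toAlgebra
  haveI : IsScalarTower Γ(X, W) (X.presheaf.stalk y) (M.presheaf.stalk y) := sectionTower M (⟨y, hy⟩ : W)
  haveI : IsLocalization.AtPrime (X.presheaf.stalk y) (hW.primeIdealOf ⟨y, hy⟩).asIdeal :=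
    hW.isLocalization_stalk ⟨y, hy⟩
  have hl : IsBaseChange (X.presheaf.stalk y) (germₗ M (⟨y, hy⟩ : W)) :=
    (isLocalizedModule_iff_isBaseChange (hW.primeIdealOf ⟨y, hy⟩).asIdeal.primeCompl
      (X.presheaf.stalk y) _).mp (isLocalizedModule_germ hW M ⟨y, hy⟩)
  exact ideal_of_isBaseChange hl r

end Groth.Agent.Fitting
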