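import Groth.Agent.Fitting.Basic
import Mathlib.RingTheory.IsTensorProduct
import Mathlib.LinearAlgebra.TensorProduct.RightExactness
import Mathlib.LinearAlgebra.TensorProduct.Pi

/-! Fitting ideals: base change, monotonicity, support of the zeroth one. -/

set_option autoImplicit false
universe u v w

open Matrix TensorProduct

namespace Groth.Agent.Fitting

variable {R : Type u} [CommRing R]

theorem rel_mem_span {R' : Type u} [CommRing R'] [Algebra R R'] {M : Type v} [AddCommGroup M] [Module R M]
    {M' : Type w} [AddCommGroup M'] [Module R M'] [Module R' M'] [IsScalarTower R R' M']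
    {φ : M →ₗ[R] M'} (hφ : IsBaseChange R' φ) {n : ℕ} (x : Fin n → M)
    (hx : Submodule.span R (Set.range x) = ⊤) (w' : Fin n → R') (hw : ∑ j, w' j • φ (x j) = 0) :
    w' ∈ Submodule.span R' {v | ∃ z : Fin n → R, ∑ j, z j • x j = 0 ∧ v = fun i => algebraMap R R' (z i)} := by
  classical
  let p := Fintype.linearCombination R x
  have hp : Function.Surjective p := by
    rw [← LinearMap.range_eq_top, Fintype.range_linearCombination, hx]
  have hex : Function.Exact (LinearMap.ker p).subtype p := LinearMap.exact_subtype_ker_map p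
  have hT := lTensor_exact R' hex hp
  let u : R' ⊗[R] (Fin n → R) := ∑ j, w' j ⊗ₜ Pi.single j (1 : R)
  have hu : p.lTensor R' u = 0 := by
    apply hφ.equiv.injective
    simpa [u, p, map_sum, IsBaseChange.equiv_tmul] using hw
  obtain ⟨t, ht⟩ := (hT u).mp hu
  have hwu : w' = TensorProduct.piScalarRight R R' R' (Fin n) u := by
    ext i
    simp [u, map_sum, Pi.single_apply, Finset.sum_apply, ite_smul]
  rw [hwu, ← ht]
  clear ht
  induction t using TensorProduct.induction_on with
  | zero => simp
  | tmul r z =>
    rw [LinearMap.lTensor_tmul]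
    have : TensorProduct.piScalarRight R R' R' (Fin n) (r ⊗ₜ (z : Fin n → R)) =
        r • fun i => algebraMap R R' ((z : Fin n → R) i) := by
      ext i
      simp [Algebra.smul_def, mul_comm]
    erw [this]
    refine Submodule.smul_mem _ _ (Submodule.subset_span ⟨_, ?_, rfl⟩)
    exact (Fintype.linearCombination_apply R x (z : Fin n → R)).symm.trans z.2
  | add a b ha hb => rw [map_add, map_add]; exact add_mem ha hb

theorem ideal_of_isBaseChange {R' : Type u} [CommRing R'] [Algebra R R'] {M : Type v} [AddCommGroup M]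
    [Module R M] [Module.Finite R M]
    {M' : Type w} [AddCommGroup M'] [Module R M'] [Module R' M'] [IsScalarTower R R' M']
    {φ : M →ₗ[R] M'} (hφ : IsBaseChange R' φ) (k : ℕ) :
    Fitt.ideal R' M' k = (Fitt.ideal R M k).map (algebraMap R R') := by
  classical
  obtain ⟨n, x, hx⟩ := Module.Finite.exists_fin (R := R) (M := M)
  have hx' : Submodule.span R' (Set.range (φ ∘ x)) = ⊤ := by
    refine eq_top_iff.mpr fun m _ => ?_
    clear * - m hx hφ
    induction m using hφ.inductionOn with
    | zero => exact zero_mem _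
    | tmul m =>
      have hm : m ∈ Submodule.span R (Set.range x) := hx ▸ Submodule.mem_top
      have := Submodule.apply_mem_span_image_of_mem_span φ hm
      rw [← Set.range_comp] at this
      exact Submodule.span_le_restrictScalars R R' _ this
    | smul r m hm => exact Submodule.smul_mem _ r hm
    | add a b ha hb => exact add_mem ha hb
  rw [ideal_eq_F x hx, ideal_eq_F (φ ∘ x) hx']
  refine le_antisymm (Ideal.span_le.mpr ?_) (Ideal.map_le_iff_le_comap.mpr (Ideal.span_le.mpr ?_))
  · rintro _ ⟨a, S, hS, h, rfl⟩
    let G : Fin n → Set (Fin n → R') := fun i => if i ∈ S then Set.range fun j => Pi.single j (1 : R')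
      else {v | ∃ z : Fin n → R, ∑ j, z j • x j = 0 ∧ v = fun l => algebraMap R R' (z l)}
    refine det_mem_of_rows _ G a (fun i => ?_) fun b hb => ?_
    · by_cases hi : i ∈ S
      · rw [show G i = _ from if_pos hi]
        rw [pi_eq_sum_univ' (a i)]
        exact Submodule.sum_mem _ fun j _ => Submodule.smul_mem _ _ (Submodule.subset_span ⟨j, rfl⟩)
      · rw [show G i = _ from if_neg hi]
        exact rel_mem_span hφ x hx _ (h i hi)
    · have : ∀ i, ∃ z : Fin n → R, (i ∉ S → ∑ j, z j • x j = 0) ∧ b i = fun l => algebraMap R R' (z l) := by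
        intro i
        by_cases hi : i ∈ S
        · obtain ⟨j, hj⟩ : b i ∈ Set.range fun j => Pi.single j (1 : R') := by
            have := hb i; rwa [show G i = _ from if_pos hi] at this
          refine ⟨Pi.single j 1, fun h => absurd hi h, hj.symm.trans ?_⟩
          ext l
          rcases eq_or_ne l j with rfl | hl <;> simp [*]
        · have := hb i
          rw [show G i = _ from if_neg hi] at this
          obtain ⟨z, hz, hzb⟩ := this
          exact ⟨z, fun _ => hz, hzb⟩
      choose z hz hzb using this
      have hb' : b = (Matrix.of z).map (algebraMap R R') := by ext i l; simp [hzb i]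
      rw [hb', ← RingHom.mapMatrix_apply, ← RingHom.map_det]
      exact Ideal.mem_map_of_mem _ (det_mem_F _ S hS fun i hi => hz i hi)
  · rintro _ ⟨a, S, hS, h, rfl⟩
    rw [SetLike.mem_coe, Ideal.mem_comap, RingHom.map_det]
    refine det_mem_F _ S hS fun i hi => ?_
    simp only [RingHom.mapMatrix_apply, Matrix.map_apply, Function.comp_apply, algebraMap_smul]
    rw [← φ.map_zero, ← h i hi, map_sum]
    simp_rw [map_smul]

variable {M : Type v} [AddCommGroup M] [Module R M]

theorem F_fg {n : ℕ} (x : Fin n → M) (k : ℕ) (hK : (LinearMap.ker (Fintype.linearCombination R x)).FG) :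
    (F (R := R) x k).FG := by
  classical
  obtain ⟨T, hT⟩ := hK
  let G : Finset (Fin n → R) := T ∪ Finset.univ.image fun j => Pi.single j 1
  let D : Set R := {d | ∃ (b : Fin n → G) (S : Finset (Fin n)),
    S.card ≤ k ∧ (∀ i ∉ S, (b i : Fin n → R) ∈ T) ∧ d = (Matrix.of fun i => (b i : Fin n → R)).det}
  have hD : D.Finite := by
    refine (Set.finite_range fun b : Fin n → G => (Matrix.of fun i => (b i : Fin n → R)).det).subset ?_
    rintro _ ⟨b, S, -, -, rfl⟩
    exact ⟨b, rfl⟩
  have hTK : ∀ v ∈ T, ∑ j, v j • x j = 0 := fun v hv => by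
    have : v ∈ LinearMap.ker (Fintype.linearCombination R x) := hT ▸ Submodule.subset_span hv
    simpa [Fintype.linearCombination_apply] using this
  refine ⟨hD.toFinset, le_antisymm (Ideal.span_le.mpr ?_) (Ideal.span_le.mpr ?_)⟩
  · rintro _ hd
    obtain ⟨b, S, hS, hb, rfl⟩ := hD.mem_toFinset.mp hd
    exact det_mem_F _ S hS fun i hi => hTK _ (hb i hi)
  · rintro _ ⟨a, S, hS, h, rfl⟩
    let G' : Fin n → Set (Fin n → R) := fun i => if i ∈ S then (G : Set (Fin n → R)) else (T : Set (Fin n → R))
    refine det_mem_of_rows _ G' a (fun i => ?_) fun b hb => ?_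
    · by_cases hi : i ∈ S
      · rw [show G' i = _ from if_pos hi, pi_eq_sum_univ' (a i)]
        exact Submodule.sum_mem _ fun j _ => Submodule.smul_mem _ _ (Submodule.subset_span (by simp [G]))
      · rw [show G' i = _ from if_neg hi, hT]
        simpa [Fintype.linearCombination_apply] using h i hi
    · have hbG : ∀ i, b i ∈ G := fun i => by
        have := hb i
        by_cases hi : i ∈ S
        · rwa [show G' i = _ from if_pos hi] at this
        · rw [show G' i = _ from if_neg hi] at this
          exact Finset.mem_union_left _ this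
      refine Ideal.subset_span (hD.mem_toFinset.mpr ⟨fun i => ⟨b i, hbG i⟩, S, hS, fun i hi => ?_, rfl⟩)
      have := hb i
      rwa [show G' i = _ from if_neg hi] at this

theorem ideal_mono_of_surjective {M' : Type w} [AddCommGroup M'] [Module R M'] (f : M →ₗ[R] M')
    (hf : Function.Surjective f) (k : ℕ) : Fitt.ideal R M k ≤ Fitt.ideal R M' k := by
  refine Ideal.span_le.mpr ?_
  rintro _ ⟨n, x, a, hx, h, rfl⟩
  refine Ideal.subset_span ⟨n, f ∘ x, a, ?_, fun i hi => ?_, rfl⟩
  · rw [Set.range_comp, Submodule.span_image, hx, Submodule.map_top, LinearMap.range_eq_top.mpr hf]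
  · rw [← f.map_zero, ← h i hi, map_sum]
    simp_rw [map_smul]
    rfl

theorem ideal_zero_le_annihilator : Fitt.ideal R M 0 ≤ Module.annihilator R M := by
  refine Ideal.span_le.mpr ?_
  rintro _ ⟨n, x, a, hx, h, rfl⟩
  rw [SetLike.mem_coe, Module.mem_annihilator]
  intro m
  suffices H : ∀ j, a.det • x j = 0 by
    have hm : m ∈ Submodule.span R (Set.range x) := hx ▸ Submodule.mem_top
    induction hm using Submodule.span_induction with
    | mem _ hm => obtain ⟨j, rfl⟩ := hm; exact H j
    | zero => simp
    | add _ _ _ _ h1 h2 => rw [smul_add, h1, h2, add_zero]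
    | smul r _ _ h1 => rw [smul_comm, h1, smul_zero]
  intro l
  calc a.det • x l = ∑ j, ((adjugate a * a) l j) • x j := by
        simp [adjugate_mul, Matrix.one_apply, ite_smul]
    _ = ∑ i, adjugate a l i • ∑ j, a i j • x j := by
        simp only [Matrix.mul_apply, Finset.sum_smul, Finset.smul_sum, smul_smul]
        exact Finset.sum_comm
    _ = 0 := by
        refine Finset.sum_eq_zero fun i _ => ?_
        rw [h i (by simp), smul_zero]

theorem pow_mem_ideal_zero {n : ℕ} (x : Fin n → M) (hx : Submodule.span R (Set.range x) = ⊤) (r : R)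
    (hr : ∀ j, r • x j = 0) : r ^ n ∈ Fitt.ideal R M 0 := by
  rw [ideal_eq_F x hx]
  have := det_mem_F (x := x) (k := 0) (Matrix.diagonal fun _ => r) ∅ (by simp) fun i _ => by
    simpa [Matrix.diagonal_apply, ite_smul] using hr i
  simpa using this

theorem zeroLocus_ideal_zero [Module.Finite R M] :
    PrimeSpectrum.zeroLocus (Fitt.ideal R M 0 : Set R) = Module.support R M := by
  obtain ⟨n, x, hx⟩ := Module.Finite.exists_fin (R := R) (M := M)
  rw [Module.support_eq_zeroLocus]
  refine Set.Subset.antisymm ?_ (PrimeSpectrum.zeroLocus_anti_mono_ideal ideal_zero_le_annihilator)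
  intro p hp r hr
  exact p.isPrime.mem_of_pow_mem n (hp (pow_mem_ideal_zero x hx r fun j => Module.mem_annihilator.mp hr _))

theorem ideal_quotient_zero (I : Ideal R) : Fitt.ideal R (R ⧸ I) 0 = I := by
  have hx : Submodule.span R (Set.range fun _ : Fin 1 => Ideal.Quotient.mk I 1) = ⊤ := by
    rw [eq_top_iff]
    intro m _
    obtain ⟨r, rfl⟩ := Ideal.Quotient.mk_surjective m
    rw [show Ideal.Quotient.mk I r = r • Ideal.Quotient.mk I (1 : R) from by
      rw [← Ideal.Quotient.mkₐ_eq_mk R, ← map_smul, smul_eq_mul, mul_one]]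
    exact Submodule.smul_mem _ r (Submodule.subset_span ⟨0, rfl⟩)
  refine le_antisymm ?_ ?_
  · exact ideal_zero_le_annihilator.trans (le_of_eq Ideal.annihilator_quotient)
  · intro r hr
    have := pow_mem_ideal_zero (fun _ : Fin 1 => Ideal.Quotient.mk I 1) hx r fun _ => by
      rw [← Ideal.Quotient.mkₐ_eq_mk R, ← map_smul, smul_eq_mul, mul_one]
      exact Ideal.Quotient.eq_zero_iff_mem.mpr hr
    simpa using this

theorem ideal_field {K : Type u} [Field K] {V : Type v} [AddCommGroup V] [Module K V] [Module.Finite K V] (k : ℕ) :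
    Fitt.ideal K V k = if Module.finrank K V ≤ k then ⊤ else ⊥ := by
  let b := Module.finBasis K V
  rw [ideal_eq_F b b.span_eq]
  split_ifs with h
  · exact F_eq_top_of_le _ h
  · refine eq_bot_iff.mpr (Ideal.span_le.mpr ?_)
    rintro _ ⟨a, S, hS, ha, rfl⟩
    obtain ⟨i, hi⟩ : ∃ i, i ∉ S := by
      by_contra hc
      push_neg at hc
      rw [Finset.eq_univ_iff_forall.mpr hc, Finset.card_univ, Fintype.card_fin] at hS
      exact h hS
    exact Matrix.det_eq_zero_of_row_eq_zero i
      (Fintype.linearIndependent_iff.mp b.linearIndependent _ (ha i hi))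

end Groth.Agent.Fitting
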