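import Groth.Prelude.Def_Fitting
import Mathlib.LinearAlgebra.Matrix.Determinant.Basic
import Mathlib.RingTheory.Finiteness.Basic
import Mathlib.Algebra.Module.Submodule.Pointwise
import Mathlib.RingTheory.Support
import Mathlib.RingTheory.Ideal.BigOperators

/-! Fitting ideals computed from one generating tuple. -/

set_option autoImplicit false
universe u v

open Matrix

namespace Groth.Agent.Fitting

variable {R : Type u} [CommRing R] {M : Type v} [AddCommGroup M] [Module R M]

/-- Determinants of matrices all of whose rows but at most `k` are relations of `x`. -/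
def F {n : ℕ} (x : Fin n → M) (k : ℕ) : Ideal R :=
  Ideal.span {d | ∃ (a : Matrix (Fin n) (Fin n) R) (S : Finset (Fin n)),
    S.card ≤ k ∧ (∀ i ∉ S, ∑ j, a i j • x j = 0) ∧ d = a.det}

theorem det_mem_F {n : ℕ} {x : Fin n → M} {k : ℕ} (a : Matrix (Fin n) (Fin n) R) (S : Finset (Fin n))
    (hS : S.card ≤ k) (h : ∀ i ∉ S, ∑ j, a i j • x j = 0) : a.det ∈ F x k :=
  Ideal.subset_span ⟨a, S, hS, h, rfl⟩

theorem F_eq_top_of_le {n : ℕ} (x : Fin n → M) {k : ℕ} (h : n ≤ k) : F (R := R) x k = ⊤ := by
  rw [Ideal.eq_top_iff_one]
  have := det_mem_F (x := x) (k := k) (1 : Matrix (Fin n) (Fin n) R) Finset.univ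
    (by simpa using h) (fun i hi => absurd (Finset.mem_univ i) hi)
  simpa using this

theorem F_perm_le {n : ℕ} (x : Fin n → M) (σ : Equiv.Perm (Fin n)) (k : ℕ) : F (R := R) (x ∘ σ) k ≤ F (R := R) x k := by
  refine Ideal.span_le.mpr ?_
  rintro _ ⟨a, S, hS, h, rfl⟩
  have h1 : (a.submatrix id σ.symm).det ∈ F x k := by
    refine det_mem_F _ S hS fun i hi => ?_
    rw [← h i hi]
    exact Fintype.sum_equiv σ.symm _ _ fun j => by simp
  rw [Matrix.det_permute'] at h1
  have := (F x k).mul_mem_left ((Equiv.Perm.sign σ.symm : ℤ) : R) h1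
  rwa [← mul_assoc, ← Int.cast_mul, Int.units_coe_mul_self, Int.cast_one, one_mul] at this

theorem F_perm {n : ℕ} (x : Fin n → M) (σ : Equiv.Perm (Fin n)) (k : ℕ) : F (R := R) (x ∘ σ) k = F (R := R) x k := by
  refine le_antisymm (F_perm_le x σ k) ?_
  conv_lhs => rw [show x = (x ∘ σ) ∘ σ.symm by ext; simp]
  exact F_perm_le _ σ.symm k

theorem F_cast {n m : ℕ} (e : n = m) (x : Fin m → M) (k : ℕ) : F (R := R) (x ∘ Fin.cast e) k = F (R := R) x k := by
  subst e
  rfl

theorem F_equiv {n m : ℕ} (x : Fin m → M) (e : Fin n ≃ Fin m) (k : ℕ) : F (R := R) (x ∘ e) k = F (R := R) x k := by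
  obtain rfl : n = m := by simpa using Fintype.card_congr e
  exact F_perm x e k

theorem card_preimage_le {α β : Type*} [Fintype α] [DecidableEq β] (f : α → β) (hf : Function.Injective f)
    (S : Finset β) : (Finset.univ.filter fun a => f a ∈ S).card ≤ S.card :=
  Finset.card_le_card_of_injOn f (fun a ha => by simpa using ha) hf.injOn

theorem F_snoc {n : ℕ} (x : Fin n → M) (c : Fin n → R) (k : ℕ) :
    F (R := R) (Fin.snoc x (∑ i, c i • x i)) k = F x k := by
  classical
  refine le_antisymm (Ideal.span_le.mpr ?_) (Ideal.span_le.mpr ?_)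
  · rintro _ ⟨a, S, hS, h, rfl⟩
    -- clear the last generator by column operations
    let b : Matrix (Fin (n + 1)) (Fin (n + 1)) R := Matrix.of fun i j =>
      a i j + a i (Fin.last n) * Fin.snoc (α := fun _ => R) c 0 j
    have hdet : b.det = a.det := by
      rw [← det_transpose b, ← det_transpose a]
      refine det_eq_of_forall_row_eq_smul_add_const (Fin.snoc (α := fun _ => R) c 0) (Fin.last n) (by simp) ?_
      intro i j
      simp [b, mul_comm]
    have hb : ∀ i ∉ S, ∑ j : Fin n, b i (Fin.castSucc j) • x j = 0 := by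
      intro i hi
      have := h i hi
      rw [Fin.sum_univ_castSucc] at this
      simp only [Fin.snoc_castSucc, Fin.snoc_last, Finset.smul_sum, smul_smul] at this
      rw [← this, ← Finset.sum_add_distrib]
      refine Finset.sum_congr rfl fun j _ => ?_
      simp [b, add_smul]
    rw [← hdet, det_succ_column b (Fin.last n)]
    refine sum_mem fun i _ => Ideal.mul_mem_left _ _ ?_
    refine det_mem_F _ (Finset.univ.filter fun i' => i.succAbove i' ∈ S)
      ((card_preimage_le _ Fin.succAbove_right_injective S).trans hS) fun i' hi' => ?_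
    simpa [Fin.succAbove_last] using hb (i.succAbove i') (by simpa using hi')
  · rintro _ ⟨a, S, hS, h, rfl⟩
    let b : Matrix (Fin (n + 1)) (Fin (n + 1)) R := Matrix.of
      (Fin.snoc (α := fun _ => Fin (n + 1) → R) (fun i => Fin.snoc (α := fun _ => R) (a i) 0)
        (Fin.snoc (α := fun _ => R) c (-1)))
    have hdet : b.det = - a.det := by
      rw [det_succ_column b (Fin.last n), Fin.sum_univ_castSucc, Finset.sum_eq_zero (fun i _ => by simp [b]),
        zero_add]
      have : b.submatrix (Fin.last n).succAbove (Fin.last n).succAbove = a := by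
        ext i j
        simp [b, Fin.succAbove_last]
      rw [this]
      simp [b, ← two_mul, pow_mul]
    have : b.det ∈ F (Fin.snoc x (∑ i, c i • x i)) k := by
      refine det_mem_F _ (S.map Fin.castSuccEmb) (by simpa using hS) fun i hi => ?_
      induction i using Fin.lastCases with
      | last =>
        rw [Fin.sum_univ_castSucc]
        simp [b]
      | cast i =>
        rw [Fin.sum_univ_castSucc]
        simpa [b] using h i (by simpa using hi)
    rwa [hdet, neg_mem_iff] at this

theorem F_append {n m : ℕ} (x : Fin n → M) (y : Fin m → M)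
    (hy : ∀ j, y j ∈ Submodule.span R (Set.range x)) (k : ℕ) : F (R := R) (Fin.append x y) k = F (R := R) x k := by
  induction m with
  | zero =>
    rw [Fin.append_right_nil _ _ rfl]
    exact F_cast (R := R) (add_zero n) x k
  | succ m ih =>
    rw [← Fin.snoc_init_self y, Fin.append_snoc]
    have hx : y (Fin.last m) ∈ Submodule.span R (Set.range (Fin.append x (Fin.init y))) :=
      Submodule.span_mono (fun z hz => by obtain ⟨i, rfl⟩ := hz; exact ⟨Fin.castAdd m i, by simp⟩) (hy _)
    obtain ⟨c, hc⟩ := Submodule.mem_span_range_iff_exists_fun R |>.mp hx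
    rw [← hc]
    exact (F_snoc (Fin.append x (Fin.init y)) c k).trans (ih _ fun j => hy _)

theorem F_congr {n m : ℕ} (x : Fin n → M) (y : Fin m → M) (hx : Submodule.span R (Set.range x) = ⊤)
    (hy : Submodule.span R (Set.range y) = ⊤) (k : ℕ) : F (R := R) x k = F (R := R) y k := by
  rw [← F_append x y (fun j => hx ▸ Submodule.mem_top), ← F_append y x (fun j => hy ▸ Submodule.mem_top)]
  let e : Fin (n + m) ≃ Fin (m + n) := finSumFinEquiv.symm.trans ((Equiv.sumComm _ _).trans finSumFinEquiv)
  have he : Fin.append x y = Fin.append y x ∘ e := by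
    ext i
    induction i using Fin.addCases <;> simp [e]
  rw [he]
  exact F_equiv _ e k

theorem ideal_eq_F {n : ℕ} (x : Fin n → M) (hx : Submodule.span R (Set.range x) = ⊤) (k : ℕ) :
    Fitt.ideal R M k = F x k := by
  classical
  refine le_antisymm (Ideal.span_le.mpr ?_) (Ideal.span_le.mpr ?_)
  · rintro _ ⟨m, y, a, hy, h, rfl⟩
    rw [SetLike.mem_coe, F_congr x y hx hy]
    refine det_mem_F a (Finset.univ.filter fun i : Fin m => m - k ≤ (i : ℕ)) ?_ fun i hi => h i (Nat.lt_of_not_le (by simpa using hi))
    refine (Finset.card_le_card_of_injOn (fun i : Fin m => m - 1 - (i : ℕ)) (t := Finset.range k) ?_ ?_).trans (by simp)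
    · intro i hi
      have := (Finset.mem_filter.mp hi).2
      have := i.2
      simp only [Finset.coe_range, Set.mem_Iio]
      omega
    · intro i _ j _ hij
      have := i.2; have := j.2
      exact Fin.ext (by simp only at hij; omega)
  · rintro _ ⟨a, S, hS, h, rfl⟩
    -- move the rows outside `S` to the top
    obtain ⟨T, hST, hT⟩ := Finset.exists_superset_card_eq (s := S) (n := min k n) (le_min hS (by simpa using S.card_le_univ))
      (by simp)
    have hc : (Tᶜ).card = n - k := by rw [Finset.card_compl, Fintype.card_fin, hT]; omega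
    have h1 : Fintype.card {i : Fin n // (i : ℕ) < n - k} = Fintype.card {i : Fin n // i ∈ Tᶜ} := by
      rw [Fintype.card_subtype, Fintype.card_coe, hc]
      simp [Fin.card_filter_val_lt]
    let σ : Equiv.Perm (Fin n) := (Fintype.equivOfCardEq h1).extendSubtype
    have hmem : (a.submatrix σ id).det ∈ Fitt.ideal R M k := by
      refine Ideal.subset_span ⟨n, x, _, hx, fun i hi => ?_, rfl⟩
      refine h (σ i) fun hmem => ?_
      have := (Fintype.equivOfCardEq h1).extendSubtype_mem i hi
      exact Finset.mem_compl.mp this (hST hmem)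
    rw [det_permute] at hmem
    have := (Fitt.ideal R M k).mul_mem_left ((Equiv.Perm.sign σ : ℤ) : R) hmem
    rwa [← mul_assoc, ← Int.cast_mul, Int.units_coe_mul_self, Int.cast_one, one_mul] at this

/-- A determinant lies in an ideal as soon as it does after replacing each row from `T` by generators. -/
theorem det_mem_of_rows {n : ℕ} (I : Ideal R) (G : Fin n → Set (Fin n → R)) (a : Matrix (Fin n) (Fin n) R)
    (ha : ∀ i, a i ∈ Submodule.span R (G i)) (h : ∀ b : Matrix (Fin n) (Fin n) R, (∀ i, b i ∈ G i) → b.det ∈ I) :
    a.det ∈ I := by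
  classical
  suffices H : ∀ T : Finset (Fin n), ∀ b : Matrix (Fin n) (Fin n) R,
      (∀ i ∈ T, b i ∈ Submodule.span R (G i)) → (∀ i ∉ T, b i ∈ G i) → b.det ∈ I from
    H Finset.univ a (fun i _ => ha i) fun i hi => absurd (Finset.mem_univ i) hi
  intro T
  induction T using Finset.induction_on with
  | empty => exact fun b _ hb => h b fun i => hb i (by simp)
  | insert i T hi ih =>
    intro b hb hb'
    have key : ∀ v ∈ Submodule.span R (G i), (b.updateRow i v).det ∈ I := by
      intro v hv
      induction hv using Submodule.span_induction with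
      | mem v hv =>
        refine ih _ (fun j hj => ?_) fun j hj => ?_
        · rw [Matrix.updateRow_ne (by rintro rfl; exact hi hj)]
          exact hb j (Finset.mem_insert_of_mem hj)
        · rcases eq_or_ne j i with rfl | hji
          · rwa [Matrix.updateRow_self]
          · rw [Matrix.updateRow_ne hji]
            exact hb' j (by simp [hji, hj])
      | zero => rw [det_eq_zero_of_row_eq_zero i (by simp)]; exact zero_mem _
      | add v w _ _ hv hw => rw [det_updateRow_add]; exact add_mem hv hw
      | smul r v _ hv => rw [det_updateRow_smul]; exact I.mul_mem_left r hv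
    simpa using key (b i) (hb i (Finset.mem_insert_self _ _))

/-- If each row outside `S` is a relation, the determinant is in the span of the minors of those rows. -/
theorem det_mem_span_minors {n : ℕ} {ι : Type*} (a : Matrix (Fin n) ι R) (c : Fin n → ι) (S : Finset (Fin n)) :
    (a.submatrix id c).det ∈ Ideal.span {d | ∃ (r : Fin (n - S.card) → Fin n) (e : Fin (n - S.card) → ι),
      (∀ j, r j ∉ S) ∧ d = (a.submatrix r e).det} := by
  classical
  induction n with
  | zero =>
    exact Ideal.subset_span ⟨fun j => absurd j.2 (by simp), fun j => absurd j.2 (by simp),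
      fun j => absurd j.2 (by simp), by
        haveI : IsEmpty (Fin (0 - S.card)) := by rw [Nat.zero_sub]; infer_instance
        simp⟩
  | succ n ih =>
    by_cases hS : S.Nonempty
    · obtain ⟨i, hi⟩ := hS
      let S' : Finset (Fin n) := Finset.univ.filter fun j => i.succAbove j ∈ S
      have hS' : S'.card + 1 = S.card := by
        have : S'.map ⟨i.succAbove, Fin.succAbove_right_injective⟩ = S.erase i := by
          ext j
          rcases eq_or_ne j i with rfl | hj
          · simp [Fin.succAbove_ne]
          · obtain ⟨j', rfl⟩ := Fin.exists_succAbove_eq hj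
            simp [S', Fin.succAbove_ne, Fin.succAbove_right_injective.eq_iff]
        rw [← Finset.card_map ⟨i.succAbove, Fin.succAbove_right_injective⟩, this,
          Finset.card_erase_add_one hi]
      rw [det_succ_row _ i]
      refine sum_mem fun j _ => Ideal.mul_mem_left _ _ ?_
      refine Ideal.span_mono ?_ (ih (a.submatrix i.succAbove id) (fun l => c (j.succAbove l)) S')
      rintro d ⟨r, e, hr, rfl⟩
      have he : n + 1 - S.card = n - S'.card := by omega
      refine ⟨fun l => i.succAbove (r (Fin.cast he l)), fun l => e (Fin.cast he l), fun l => ?_, ?_⟩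
      · simpa [S'] using hr (Fin.cast he l)
      · exact (det_submatrix_equiv_self (finCongr he) _).symm
    · rw [Finset.not_nonempty_iff_eq_empty] at hS
      subst hS
      refine Ideal.subset_span ⟨Fin.cast (by simp), fun l => c (Fin.cast (by simp) l), by simp, ?_⟩
      exact (det_submatrix_equiv_self (finCongr (by simp : n + 1 - (∅ : Finset (Fin (n+1))).card = n + 1)) _).symm

/-- Minors of larger size lie in the ideal of minors of smaller size. -/
theorem minors_mono {n m : ℕ} (z : Matrix (Fin m) (Fin n) R) (e : Fin m → Fin n) {l : ℕ} (hl : l ≤ m) :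
    (z.submatrix id e).det ∈ Ideal.span {d | ∃ (r : Fin l → Fin m) (e' : Fin l → Fin n),
      d = (z.submatrix r e').det} := by
  classical
  obtain ⟨S, -, hS⟩ := Finset.exists_superset_card_eq (s := (∅ : Finset (Fin m))) (n := m - l) (by simp) (by simp)
  refine Ideal.span_mono ?_ (det_mem_span_minors z e S)
  rintro d ⟨r, e', -, rfl⟩
  have he : l = m - S.card := by omega
  exact ⟨r ∘ Fin.cast he, e' ∘ Fin.cast he, (det_submatrix_equiv_self (finCongr he) _).symm⟩

theorem F_eq_span_minors {n : ℕ} (x : Fin n → M) (k : ℕ) :
    F x k = Ideal.span {d | ∃ (z : Fin (n - k) → (Fin n → R)) (e : Fin (n - k) → Fin n),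
      (∀ j, ∑ i, z j i • x i = 0) ∧ d = (Matrix.of fun a b => z b (e a)).det} := by
  classical
  refine le_antisymm (Ideal.span_le.mpr ?_) (Ideal.span_le.mpr ?_)
  · rintro _ ⟨a, S, hS, h, rfl⟩
    have h1 := det_mem_span_minors a id S
    rw [submatrix_id_id] at h1
    revert h1
    refine fun h1 => (Ideal.span_le.mpr ?_) h1
    rintro _ ⟨r, e, hr, rfl⟩
    have h2 := minors_mono (a.submatrix r id) e (show n - k ≤ n - S.card by omega)
    revert h2
    refine fun h2 => (Ideal.span_le.mpr ?_) h2
    rintro _ ⟨r', e', rfl⟩
    exact Ideal.subset_span ⟨fun j => a (r (r' j)), e', fun j => h _ (hr _), (det_transpose _).symm⟩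
  · rintro _ ⟨z, e, hz, rfl⟩
    by_cases he : Function.Injective e
    · let a : Matrix (Fin n) (Fin n) R := Matrix.of fun i =>
        if h : ∃ j, e j = i then z h.choose else Pi.single i 1
      have ha : ∀ j, a (e j) = z j := fun j => by
        have h : ∃ j', e j' = e j := ⟨j, rfl⟩
        show (if h : ∃ j', e j' = e j then z h.choose else Pi.single (e j) 1) = z j
        rw [dif_pos h, he h.choose_spec]
      have ha' : ∀ i, (¬ ∃ j, e j = i) → a i = Pi.single i 1 := fun i hi => dif_neg hi
      have hmem : a.det ∈ F x k := by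
        refine det_mem_F a (Finset.univ.image e)ᶜ ?_ fun i hi => ?_
        · rw [Finset.card_compl, Finset.card_image_of_injective _ he]; simp; omega
        · obtain ⟨j, rfl⟩ : ∃ j, e j = i := by simpa using hi
          rw [ha]
          exact hz j
      let e' : Fin (n - k) ≃ {i : Fin n // ∃ j, e j = i} := Equiv.ofInjective e he
      let eq : Fin (n - k) ⊕ {i : Fin n // ¬ ∃ j, e j = i} ≃ Fin n :=
        (e'.sumCongr (Equiv.refl _)).trans (Equiv.sumCompl _)
      have hblock : a.submatrix eq eq = fromBlocks (Matrix.of fun b c => z b (e c))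
          (Matrix.of fun b c => z b c.1) 0 1 := by
        ext (b | b) (c | c)
        · show a (e b) (e c) = z b (e c); rw [ha]
        · show a (e b) c.1 = z b c.1; rw [ha]
        · simp only [submatrix_apply, fromBlocks_apply₂₁, Matrix.zero_apply]
          rw [show eq (.inr b) = b.1 from rfl, ha' _ b.2]
          exact Pi.single_eq_of_ne (fun h => b.2 ⟨c, h⟩) _
        · simp only [submatrix_apply, fromBlocks_apply₂₂]
          rw [show eq (.inr b) = b.1 from rfl, ha' _ b.2]
          show (Pi.single b.1 (1:R) : Fin n → R) c.1 = _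
          simp [Matrix.one_apply, Pi.single_apply, Subtype.ext_iff, eq_comm]
      rw [← det_submatrix_equiv_self eq, hblock, det_fromBlocks_zero₂₁, det_one, mul_one, ← det_transpose] at hmem
      exact hmem
    · obtain ⟨i, j, hij, hne⟩ : ∃ i j, e i = e j ∧ i ≠ j := by simpa [Function.Injective] using he
      rw [SetLike.mem_coe, det_zero_of_row_eq hne (by ext b; simp [hij])]
      exact zero_mem _

end Groth.Agent.Fitting
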