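import Groth.Agent.Fitting.Fiber
import Groth.Agent.ModStalk.Localization
import Groth.Agent.ModStalk.Affine

/-! Fitting ideal sheaves of quasi-coherent modules of finite type. -/

set_option autoImplicit false
set_option linter.style.haveILetI false
universe u

open CategoryTheory AlgebraicGeometry Opposite TopologicalSpace Groth.Agent.ModStalk

namespace Groth.Agent.Fitting

variable {X : Scheme.{u}} (M : X.Modules) [M.IsQuasicoherent]
  [SheafOfModules.IsFiniteType (R := X.ringCatSheaf) M]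

theorem ideal_basicOpen (r : ℕ) {U : X.Opens} (hU : IsAffineOpen U) (f : Γ(X, U)) :
    (Fitt.ideal Γ(X, U) Γ(M, U) r).map (X.presheaf.map (homOfLE (X.basicOpen_le f)).op).hom =
      Fitt.ideal Γ(X, X.basicOpen f) Γ(M, X.basicOpen f) r := by
  haveI := finite_sections (M := M) hU
  letI : Algebra Γ(X, U) Γ(X, X.basicOpen f) := (X.presheaf.map (homOfLE (X.basicOpen_le f)).op).hom.toAlgebra
  haveI : IsLocalization.Away f Γ(X, X.basicOpen f) := hU.isLocalization_basicOpen f
  letI : Module Γ(X, U) Γ(M, X.basicOpen f) := Module.compHom _ (algebraMap Γ(X, U) Γ(X, X.basicOpen f))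
  haveI : IsScalarTower Γ(X, U) Γ(X, X.basicOpen f) Γ(M, X.basicOpen f) :=
    IsScalarTower.of_algebraMap_smul fun _ _ => rfl
  let res : Γ(M, U) →ₗ[Γ(X, U)] Γ(M, X.basicOpen f) :=
    { toFun := fun a => M.presheaf.map (homOfLE (X.basicOpen_le f)).op a
      map_add' := map_add _
      map_smul' := fun r a => Scheme.Modules.map_smul M _ r a }
  haveI : IsLocalizedModule (Submonoid.powers f) res := by
    refine ⟨fun c => ?_, fun m => ?_, fun {a b} h => ?_⟩
    · have hu : IsUnit (algebraMap Γ(X, U) Γ(X, X.basicOpen f) c) := IsLocalization.map_units _ c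
      rw [Module.End.isUnit_iff]
      exact ⟨fun a b hab => hu.smul_left_cancel.mp hab,
        fun b => ⟨(hu.unit⁻¹ : Γ(X, X.basicOpen f)ˣ).1 • b, by
          show algebraMap Γ(X, U) Γ(X, X.basicOpen f) c • ((hu.unit⁻¹ : Γ(X, X.basicOpen f)ˣ).1 • b) = b
          rw [smul_smul, IsUnit.mul_val_inv, one_smul]⟩⟩
    · obtain ⟨n, s, hs⟩ := exists_extend M hU f m
      refine ⟨(s, ⟨f ^ n, n, rfl⟩), ?_⟩
      show algebraMap Γ(X, U) Γ(X, X.basicOpen f) (f ^ n) • m = _
      rw [map_pow]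
      exact hs.symm
    · obtain ⟨n, hn⟩ := exists_pow_smul_eq_zero M hU f (a - b) (by rw [map_sub]; exact sub_eq_zero.mpr h)
      exact ⟨⟨f ^ n, n, rfl⟩, sub_eq_zero.mp ((smul_sub (f ^ n) a b).symm.trans hn)⟩
  exact (ideal_of_isBaseChange (IsLocalizedModule.isBaseChange (Submonoid.powers f) Γ(X, X.basicOpen f) res) r).symm

theorem sheafIdeal_ideal (r : ℕ) (U : X.affineOpens) :
    (Fitt.sheafIdeal M r).ideal U = Fitt.ideal Γ(X, U.1) Γ(M, U.1) r := by
  refine le_antisymm (Scheme.IdealSheafData.ideal_ofIdeals_le _ U) ?_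
  let J : X.IdealSheafData :=
    { ideal := fun U => Fitt.ideal Γ(X, U.1) Γ(M, U.1) r
      map_ideal_basicOpen := fun U f => ideal_basicOpen M r U.2 f }
  exact (Scheme.IdealSheafData.le_ofIdeals_iff (I := J)).mpr le_rfl U

theorem mem_support_sheafIdeal_iff (r : ℕ) {U : X.Opens} (hU : IsAffineOpen U) (x : U) :
    x.1 ∈ (Fitt.sheafIdeal M r).support ↔
      Fitt.ideal Γ(X, U) Γ(M, U) r ≤ (hU.primeIdealOf x).asIdeal := by
  rw [Scheme.IdealSheafData.mem_support_iff_of_mem (U := ⟨U, hU⟩) x.2, sheafIdeal_ideal,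
    Scheme.mem_zeroLocus_iff]
  refine forall₂_congr fun f _ => ?_
  rw [← germ_mem_primeIdeal_iff hU x f]
  exact not_not

end Groth.Agent.Fitting
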